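import Mathlib

/-!
# The semiring of classes of finitely generated projective modules
-/

universe u

open TensorProduct

namespace Groth.Agent.K0Trick

/-- A finitely generated projective module, bundled. -/
structure FP (R : Type u) [CommRing R] : Type (u + 1) where
  carrier : Type u
  [ac : AddCommGroup carrier]
  [mod : Module R carrier]
  [fin : Module.Finite R carrier]
  [proj : Module.Projective R carrier]

attribute [instance] FP.ac FP.mod FP.fin FP.proj

variable (R : Type u) [CommRing R]

instance fpSetoid : Setoid (FP R) where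
  r A B := Nonempty (A.carrier ≃ₗ[R] B.carrier)
  iseqv := ⟨fun _ => ⟨LinearEquiv.refl R _⟩, fun ⟨e⟩ => ⟨e.symm⟩,
    fun ⟨e⟩ ⟨f⟩ => ⟨e.trans f⟩⟩

/-- Isomorphism classes of finitely generated projective modules. -/
def Cls : Type (u + 1) := Quotient (fpSetoid R)

variable {R}

/-- The class of a module. -/
def cls (M : Type u) [AddCommGroup M] [Module R M] [Module.Finite R M] [Module.Projective R M] :
    Cls R :=
  Quotient.mk _ ⟨M⟩

lemma cls_congr {M N : Type u} [AddCommGroup M] [Module R M] [Module.Finite R M]
    [Module.Projective R M] [AddCommGroup N] [Module R N] [Module.Finite R N]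
    [Module.Projective R N] (e : M ≃ₗ[R] N) : cls (R := R) M = cls N :=
  Quotient.sound ⟨e⟩

lemma exists_equiv_of_cls_eq {M N : Type u} [AddCommGroup M] [Module R M] [Module.Finite R M]
    [Module.Projective R M] [AddCommGroup N] [Module R N] [Module.Finite R N]
    [Module.Projective R N] (h : cls (R := R) M = cls N) : Nonempty (M ≃ₗ[R] N) :=
  Quotient.exact h

lemma exists_cls_eq (x : Cls R) : ∃ A : FP R, cls A.carrier = x := by
  induction x using Quotient.inductionOn with
  | h A => exact ⟨A, rfl⟩

instance : Zero (Cls R) := ⟨cls PUnit.{u+1}⟩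
instance : One (Cls R) := ⟨cls R⟩
instance : Add (Cls R) :=
  ⟨Quotient.map₂ (fun A B => ⟨A.carrier × B.carrier⟩)
    (fun _ _ ⟨e⟩ _ _ ⟨f⟩ => ⟨e.prodCongr f⟩)⟩
noncomputable instance : Mul (Cls R) :=
  ⟨Quotient.map₂ (fun A B => ⟨A.carrier ⊗[R] B.carrier⟩)
    (fun _ _ ⟨e⟩ _ _ ⟨f⟩ => ⟨TensorProduct.congr e f⟩)⟩

lemma cls_add (M N : Type u) [AddCommGroup M] [Module R M] [Module.Finite R M]
    [Module.Projective R M] [AddCommGroup N] [Module R N] [Module.Finite R N]
    [Module.Projective R N] : cls (R := R) M + cls N = cls (M × N) := rfl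

lemma cls_mul (M N : Type u) [AddCommGroup M] [Module R M] [Module.Finite R M]
    [Module.Projective R M] [AddCommGroup N] [Module R N] [Module.Finite R N]
    [Module.Projective R N] : cls (R := R) M * cls N = cls (M ⊗[R] N) := rfl

noncomputable instance : CommSemiring (Cls R) where
  toAdd := inferInstance
  toZero := inferInstance
  toMul := inferInstance
  toOne := inferInstance
  nsmul := nsmulRec
  add_assoc a b c := by
    induction a, b, c using Quotient.inductionOn₃ with
    | h A B C => exact Quotient.sound ⟨LinearEquiv.prodAssoc R _ _ _⟩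
  zero_add a := by
    induction a using Quotient.inductionOn with
    | h A => exact Quotient.sound ⟨LinearEquiv.uniqueProd⟩
  add_zero a := by
    induction a using Quotient.inductionOn with
    | h A => exact Quotient.sound ⟨LinearEquiv.prodUnique⟩
  add_comm a b := by
    induction a, b using Quotient.inductionOn₂ with
    | h A B => exact Quotient.sound ⟨LinearEquiv.prodComm R _ _⟩
  left_distrib a b c := by
    induction a, b, c using Quotient.inductionOn₃ with
    | h A B C => exact Quotient.sound ⟨TensorProduct.prodRight R R _ _ _⟩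
  right_distrib a b c := by
    induction a, b, c using Quotient.inductionOn₃ with
    | h A B C => exact Quotient.sound ⟨TensorProduct.prodLeft R R _ _ _⟩
  zero_mul a := by
    induction a using Quotient.inductionOn with
    | h A =>
      exact Quotient.sound ⟨LinearEquiv.ofSubsingleton (R := R)
        (PUnit.{u+1} ⊗[R] A.carrier) PUnit.{u+1}⟩
  mul_zero a := by
    induction a using Quotient.inductionOn with
    | h A =>
      exact Quotient.sound ⟨LinearEquiv.ofSubsingleton (R := R)
        (A.carrier ⊗[R] PUnit.{u+1}) PUnit.{u+1}⟩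
  mul_assoc a b c := by
    induction a, b, c using Quotient.inductionOn₃ with
    | h A B C => exact Quotient.sound ⟨TensorProduct.assoc R _ _ _⟩
  one_mul a := by
    induction a using Quotient.inductionOn with
    | h A => exact Quotient.sound ⟨TensorProduct.lid R _⟩
  mul_one a := by
    induction a using Quotient.inductionOn with
    | h A => exact Quotient.sound ⟨TensorProduct.rid R _⟩
  mul_comm a b := by
    induction a, b using Quotient.inductionOn₂ with
    | h A B => exact Quotient.sound ⟨TensorProduct.comm R _ _⟩

/-- `Fin (k+1) → M` splits off the first coordinate. -/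
noncomputable def finSuccEquiv' (M : Type u) [AddCommGroup M] [Module R M] (k : ℕ) :
    (Fin (k + 1) → M) ≃ₗ[R] M × (Fin k → M) where
  toFun f := (f 0, fun i => f i.succ)
  invFun p := Fin.cons p.1 p.2
  map_add' _ _ := rfl
  map_smul' _ _ := rfl
  left_inv f := by
    ext i
    refine Fin.cases ?_ ?_ i <;> simp
  right_inv p := by simp

lemma cls_pi (M : Type u) [AddCommGroup M] [Module R M] [Module.Finite R M]
    [Module.Projective R M] (k : ℕ) :
    ∃ _ : Module.Projective R (Fin k → M), cls (R := R) (Fin k → M) = (k : Cls R) * cls M := by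
  induction k with
  | zero =>
    have : Module.Projective R (Fin 0 → M) :=
      Module.Projective.of_equiv (LinearEquiv.ofSubsingleton (R := R) PUnit.{u+1} (Fin 0 → M))
    refine ⟨inferInstance, ?_⟩
    rw [Nat.cast_zero, zero_mul]
    exact cls_congr (LinearEquiv.ofSubsingleton (R := R) (Fin 0 → M) PUnit.{u+1})
  | succ k ih =>
    obtain ⟨_, ih⟩ := ih
    have : Module.Projective R (Fin (k + 1) → M) :=
      Module.Projective.of_equiv (finSuccEquiv' M k).symm
    refine ⟨inferInstance, ?_⟩
    rw [cls_congr (finSuccEquiv' M k), ← cls_add, ih, Nat.cast_succ, add_mul, one_mul, add_comm]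

lemma cls_fin (k : ℕ) : cls (R := R) (Fin k → R) = (k : Cls R) := by
  obtain ⟨_, h⟩ := cls_pi (R := R) R k
  rw [h]
  exact mul_one _

lemma free_of_cls_eq_natCast {M : Type u} [AddCommGroup M] [Module R M] [Module.Finite R M]
    [Module.Projective R M] {k : ℕ} (h : cls (R := R) M = (k : Cls R)) : Module.Free R M := by
  rw [← cls_fin] at h
  obtain ⟨e⟩ := exists_equiv_of_cls_eq h
  exact Module.Free.of_equiv e.symm

lemma cls_eq_natCast_of_free (M : Type u) [AddCommGroup M] [Module R M] [Module.Finite R M]
    [Module.Free R M] [Nontrivial R] : cls (R := R) M = (Module.finrank R M : Cls R) := by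
  rw [← cls_fin]
  exact cls_congr (Module.finBasis R M).equivFun

/-- A surjection onto `R` splits off a copy of `R`. -/
lemma exists_cls_eq_one_add {M : Type u} [AddCommGroup M] [Module R M] [Module.Finite R M]
    [Module.Projective R M] (f : M →ₗ[R] R) (x : M) (hx : f x = 1) :
    ∃ w : Cls R, cls (R := R) M = 1 + w := by
  have h1 : ∀ y, f (y - f y • x) = 0 := fun y => by simp [hx]
  let p : M →ₗ[R] LinearMap.ker f :=
    (LinearMap.id - f.smulRight x).codRestrict _ (fun y => by simpa using h1 y)
  have hp : p.comp (LinearMap.ker f).subtype = LinearMap.id := by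
    ext y
    have hy : f y = 0 := LinearMap.mem_ker.1 y.2
    simp [p, hy]
  have : Module.Finite R (LinearMap.ker f) :=
    Module.Finite.of_surjective p (fun y => ⟨y.1, LinearMap.congr_fun hp y⟩)
  have : Module.Projective R (LinearMap.ker f) := Module.Projective.of_split _ _ hp
  refine ⟨cls (LinearMap.ker f), ?_⟩
  show _ = cls (R := R) R + _
  rw [cls_add]
  refine cls_congr ?_
  refine LinearEquiv.ofLinearMap (LinearMap.prod f p)
    ((LinearMap.toSpanSingleton R M x).coprod (LinearMap.ker f).subtype) ?_ ?_
  · ext <;> simp [p, hx]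
  · ext y; simp [p]

/-- Every class has a complement. -/
lemma exists_add_eq_natCast (x : Cls R) : ∃ (c : Cls R) (s : ℕ), x + c = (s : Cls R) := by
  obtain ⟨A, rfl⟩ := exists_cls_eq x
  obtain ⟨s, f, g, _, _, hfg⟩ := Module.Finite.exists_comp_eq_id_of_projective R A.carrier
  have hfg' : ∀ y, f (g y) = y := fun y => LinearMap.congr_fun hfg y
  let p : (Fin s → R) →ₗ[R] LinearMap.ker f :=
    (LinearMap.id - g.comp f).codRestrict _ (fun y => by simp [hfg'])
  have hp : p.comp (LinearMap.ker f).subtype = LinearMap.id := by
    refine LinearMap.ext fun y => Subtype.ext ?_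
    have hy : f y.1 = 0 := LinearMap.mem_ker.1 y.2
    simp [p, hy]
  have : Module.Finite R (LinearMap.ker f) :=
    Module.Finite.of_surjective p (fun y => ⟨y.1, LinearMap.congr_fun hp y⟩)
  have : Module.Projective R (LinearMap.ker f) := Module.Projective.of_split _ _ hp
  refine ⟨cls (LinearMap.ker f), s, ?_⟩
  rw [cls_add, ← cls_fin]
  refine cls_congr ?_
  refine LinearEquiv.ofLinearMap (g.coprod (LinearMap.ker f).subtype) (LinearMap.prod f p) ?_ ?_
  · refine LinearMap.ext fun y => ?_
    simp [p]
  · refine LinearMap.ext fun ⟨a, y⟩ => ?_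
    have hy : f y.1 = 0 := LinearMap.mem_ker.1 y.2
    ext <;> simp [p, hfg', hy]

end Groth.Agent.K0Trick
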