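import Groth.Agent.K0TrickLib.Parity

/-!
# A projective module with a free tensor power has a free multiple
-/

universe u

open TensorProduct

namespace Groth.Agent.K0Trick

variable {R : Type u} [CommRing R]

lemma exists_uniform_annihilator {M N : Type u} [AddCommGroup M] [Module R M] [Module.Finite R M]
    [AddCommGroup N] [Module R N] (S : Submonoid R) (f : M →ₗ[R] N)
    (hf : ∀ x, ∃ u ∈ S, u • f x = 0) : ∃ u ∈ S, ∀ x, u • f x = 0 := by
  classical
  obtain ⟨σ, hσ⟩ := (Module.Finite.fg_top : (⊤ : Submodule R M).FG)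
  choose u huS hu using hf
  refine ⟨∏ x ∈ σ, u x, S.prod_mem fun x _ => huS x, fun x => ?_⟩
  have hker : (⊤ : Submodule R M) ≤ LinearMap.ker ((∏ x ∈ σ, u x) • f) := by
    rw [← hσ, Submodule.span_le]
    intro y hy
    rw [SetLike.mem_coe, LinearMap.mem_ker, LinearMap.smul_apply,
      ← Finset.prod_erase_mul σ u hy, mul_smul, hu, smul_zero]
  exact LinearMap.mem_ker.1 (hker (Submodule.mem_top : x ∈ ⊤))

variable (P : Type u) [AddCommGroup P] [Module R P] [Module.Finite R P] [Module.Projective R P]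

lemma exists_local_quasiInverse (r : ℕ) (p : PrimeSpectrum R)
    (hr : Module.rankAtStalk P p = r) :
    ∃ g, g ∉ p.asIdeal ∧ ∃ (φ : (Fin r → R) →ₗ[R] P) (ψ : P →ₗ[R] (Fin r → R)),
      (∀ x, ψ (φ x) = g • x) ∧ (∀ y, φ (ψ y) = g • y) := by
  haveI : Nontrivial R := ⟨⟨0, 1, fun h => p.isPrime.ne_top
    ((Ideal.eq_top_iff_one _).2 (h ▸ p.asIdeal.zero_mem))⟩⟩
  haveI := Module.finitePresentation_of_projective R P
  set S := p.asIdeal.primeCompl
  let fP := LocalizedModule.mkLinearMap S P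
  let fF := LocalizedModule.mkLinearMap S (Fin r → R)
  haveI h1 : Module.Free (Localization.AtPrime p.asIdeal) (LocalizedModule S P) := by
    have : p ∈ Module.freeLocus R P := by rw [Module.freeLocus_eq_univ]; trivial
    exact this
  haveI h2 : Module.Free (Localization.AtPrime p.asIdeal) (LocalizedModule S (Fin r → R)) := by
    have : p ∈ Module.freeLocus R (Fin r → R) := by rw [Module.freeLocus_eq_univ]; trivial
    exact this
  have hF : Module.rankAtStalk (Fin r → R) p = r := by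
    rw [Module.rankAtStalk_eq_finrank_of_free]
    simp
  obtain ⟨e⟩ : Nonempty (LocalizedModule S P ≃ₗ[Localization.AtPrime p.asIdeal]
      LocalizedModule S (Fin r → R)) :=
    FiniteDimensional.nonempty_linearEquiv_of_finrank_eq (hr.trans hF.symm)
  obtain ⟨ψ, s, hψ⟩ := Module.FinitePresentation.exists_lift_of_isLocalizedModule S fF
    ((e.restrictScalars R).toLinearMap.comp fP)
  obtain ⟨φ, t, hφ⟩ := Module.FinitePresentation.exists_lift_of_isLocalizedModule S fP
    ((e.symm.restrictScalars R).toLinearMap.comp fF)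
  have hψ' : ∀ y, fF (ψ y) = (s : R) • e (fP y) := fun y => LinearMap.congr_fun hψ y
  have hφ' : ∀ x, fP (φ x) = (t : R) • e.symm (fF x) := fun x => LinearMap.congr_fun hφ x
  obtain ⟨u, huS, hu⟩ := exists_uniform_annihilator S
    (φ.comp ψ - ((s : R) * t) • LinearMap.id) fun y => by
    have : fP (φ (ψ y)) = fP (((s : R) * t) • y) := by
      rw [hφ', hψ', map_smul fP, ← LinearEquiv.restrictScalars_apply R e.symm, map_smul]
      simp [smul_smul, mul_comm]
    obtain ⟨c, hc⟩ := IsLocalizedModule.exists_of_eq (S := S) (f := fP) this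
    exact ⟨c, c.2, by simpa [smul_sub, Submonoid.smul_def, sub_eq_zero] using hc⟩
  obtain ⟨v, hvS, hv⟩ := exists_uniform_annihilator S
    (ψ.comp φ - ((s : R) * t) • LinearMap.id) fun x => by
    have : fF (ψ (φ x)) = fF (((s : R) * t) • x) := by
      rw [hψ', hφ', map_smul fF, ← LinearEquiv.restrictScalars_apply R e, map_smul]
      simp [smul_smul]
    obtain ⟨c, hc⟩ := IsLocalizedModule.exists_of_eq (S := S) (f := fF) this
    exact ⟨c, c.2, by simpa [smul_sub, Submonoid.smul_def, sub_eq_zero] using hc⟩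
  refine ⟨u * v * ((s : R) * t), S.mul_mem (S.mul_mem huS hvS) (S.mul_mem s.2 t.2),
    (u * v) • φ, ψ, fun x => ?_, fun y => ?_⟩
  · have := hv x
    simp only [LinearMap.sub_apply, LinearMap.comp_apply, LinearMap.smul_apply, LinearMap.id_apply,
      smul_sub, sub_eq_zero] at this
    rw [LinearMap.smul_apply, map_smul, mul_smul u v, this]
    simp [smul_smul, mul_assoc]
  · have := hu y
    simp only [LinearMap.sub_apply, LinearMap.comp_apply, LinearMap.smul_apply, LinearMap.id_apply,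
      smul_sub, sub_eq_zero] at this
    rw [LinearMap.smul_apply, mul_comm u v, mul_smul v u, this]
    simp [smul_smul, mul_assoc]

lemma exists_cover (r : ℕ) (hr : ∀ p : PrimeSpectrum R, Module.rankAtStalk P p = r) :
    ∃ (k : ℕ) (c g : Fin k → R) (φ : Fin k → (Fin r → R) →ₗ[R] P)
      (ψ : Fin k → P →ₗ[R] (Fin r → R)), ∑ i, c i * g i = 1 ∧
      (∀ i x, ψ i (φ i x) = g i • x) ∧ (∀ i y, φ i (ψ i y) = g i • y) := by
  let G : Set R := {g | ∃ (φ : (Fin r → R) →ₗ[R] P) (ψ : P →ₗ[R] (Fin r → R)),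
      (∀ x, ψ (φ x) = g • x) ∧ (∀ y, φ (ψ y) = g • y)}
  have htop : Ideal.span G = ⊤ := by
    by_contra hne
    obtain ⟨m, hm, hle⟩ := Ideal.exists_le_maximal _ hne
    obtain ⟨g, hg, hG⟩ := exists_local_quasiInverse P r ⟨m, hm.isPrime⟩ (hr _)
    exact hg (hle (Ideal.subset_span hG))
  obtain ⟨k, c, g, hcg⟩ := Submodule.mem_span_set'.1
    (show (1 : R) ∈ Submodule.span R G from (Ideal.eq_top_iff_one _).1 htop)
  choose φ ψ h1 h2 using fun i => (g i).2
  exact ⟨k, c, fun i => g i, φ, ψ, by simpa using hcg, h1, h2⟩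

lemma tensorPower_equiv (n : ℕ) :
    ∃ Q : FP R, Nonempty (TensorPower R n P ≃ₗ[R] Q.carrier) ∧
      cls Q.carrier = cls (R := R) P ^ n ∧
      (Nontrivial R → Module.rankAtStalk (R := R) Q.carrier = Module.rankAtStalk P ^ n) := by
  induction n with
  | zero =>
    refine ⟨⟨R⟩, ⟨PiTensorProduct.isEmptyEquiv _⟩, by rw [pow_zero]; rfl, fun h => ?_⟩
    rw [pow_zero]
    exact Module.rankAtStalk_self
  | succ n ih =>
    obtain ⟨Q, ⟨e⟩, hQ, hrk⟩ := ih
    refine ⟨⟨Q.carrier ⊗[R] P⟩, ⟨TensorPower.mulEquiv.symm.trans (TensorProduct.congr e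
      (PiTensorProduct.subsingletonEquiv (0 : Fin 1)))⟩, ?_, fun h => ?_⟩
    · rw [pow_succ, ← hQ]; rfl
    · rw [Module.rankAtStalk_tensorProduct, hrk h, pow_succ]

/-- A projective module with a free tensor power has a free multiple. -/
theorem exists_pi_free (n : ℕ) (hn : 1 ≤ n) (hfree : Module.Free R (TensorPower R n P)) :
    ∃ N : ℕ, 1 ≤ N ∧ Module.Free R (Fin N → P) := by
  rcases subsingleton_or_nontrivial R with h | hR
  · refine ⟨1, le_rfl, ?_⟩
    haveI := Module.subsingleton R (Fin 1 → P)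
    infer_instance
  obtain ⟨T, ⟨eT⟩, hT, hrk⟩ := tensorPower_equiv (R := R) P n
  haveI : Module.Free R T.carrier := Module.Free.of_equiv eT
  have hpow : ∀ p : PrimeSpectrum R, Module.rankAtStalk P p ^ n = Module.finrank R T.carrier := fun p => by
    have := congrFun (hrk hR) p
    rw [Module.rankAtStalk_eq_finrank_of_free] at this
    simpa using this.symm
  obtain ⟨q⟩ : Nonempty (PrimeSpectrum R) := inferInstance
  set r := Module.rankAtStalk P q with hr
  have hconst : ∀ p : PrimeSpectrum R, Module.rankAtStalk P p = r := fun p =>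
    Nat.pow_left_injective (by omega) ((hpow p).trans (hpow q).symm)
  rcases Nat.eq_zero_or_pos r with h0 | hpos
  · refine ⟨1, le_rfl, ?_⟩
    have : Subsingleton P := Module.rankAtStalk_eq_zero_iff_subsingleton.1
      (funext fun p => by rw [hconst p, h0]; rfl)
    infer_instance
  obtain ⟨k, c, g, φ, ψ, hcg, h1, h2⟩ := exists_cover (R := R) P r hconst
  have hclsT : cls (R := R) P ^ n = (r : Cls R) ^ n := by
    rw [← hT, cls_eq_natCast_of_free, ← hpow q, ← hr, Nat.cast_pow]
  obtain ⟨N, s, hN, hstab⟩ := exists_nsmul_stably_eq P r n hn hpos c g hcg φ ψ h1 h2 hclsT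
  obtain ⟨_, hPk⟩ := cls_pi (R := R) P k
  let f : (Fin k → P) →ₗ[R] R := ∑ i, c i •
    ((LinearMap.proj (⟨0, hpos⟩ : Fin r)).comp ((ψ i).comp (LinearMap.proj i)))
  obtain ⟨w, hw⟩ := exists_cls_eq_one_add f (fun i => φ i (Pi.single ⟨0, hpos⟩ 1)) (by
    simp [f, h1, hcg])
  have hk : 1 ≤ k := by
    rcases Nat.eq_zero_or_pos k with rfl | hk
    · simp at hcg
    · exact hk
  have hNw : ((N * k : ℕ) : Cls R) * cls (R := R) P = (N : Cls R) + N * w := by
    rw [Nat.cast_mul, mul_assoc, ← hPk, hw, mul_add, mul_one]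
  have hkQ : (k : Cls R) * ((N : Cls R) * cls P) = 1 + (((N - 1 : ℕ) : Cls R) + (N : Cls R) * w) := by
    rw [← mul_assoc, ← Nat.cast_mul, mul_comm k N, hNw, ← add_assoc, ← Nat.cast_one,
      ← Nat.cast_add, Nat.add_sub_cancel' hN]
  obtain ⟨l, F, hl, hF⟩ := exists_power_free (Nat.mul_pos hN hpos) hstab hkQ hk
  obtain ⟨_, hpi⟩ := cls_pi (R := R) P (l * N)
  refine ⟨l * N, Nat.mul_pos hl hN, free_of_cls_eq_natCast (k := F) ?_⟩
  rw [hpi, Nat.cast_mul, mul_assoc, hF]

end Groth.Agent.K0Trick
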