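import Groth.Agent.K0TrickLib.Classes

/-!
# Parity complexes: nilpotence of `[P] - r` in `K₀`
-/

universe u

open TensorProduct Polynomial

namespace Groth.Agent.K0Trick

variable {R : Type u} [CommRing R]

/-- Scalars `g` such that `g` is null-homotopic on the `ℤ/2`-graded complex `(d, e)`. -/
def nullIdeal {A B : Type u} [AddCommGroup A] [Module R A] [AddCommGroup B] [Module R B]
    (d : A →ₗ[R] B) (e : B →ₗ[R] A) : Ideal R where
  carrier := {g | ∃ (h : A →ₗ[R] B) (k : B →ₗ[R] A),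
    (∀ x, k (d x) + e (h x) = g • x) ∧ (∀ y, h (e y) + d (k y) = g • y)}
  zero_mem' := ⟨0, 0, by simp, by simp⟩
  add_mem' := by
    rintro a b ⟨h, k, h1, h2⟩ ⟨h', k', h1', h2'⟩
    refine ⟨h + h', k + k', fun x => ?_, fun y => ?_⟩
    · simp only [LinearMap.add_apply, map_add, add_smul, ← h1 x, ← h1' x]; abel
    · simp only [LinearMap.add_apply, map_add, add_smul, ← h2 y, ← h2' y]; abel
  smul_mem' := by
    rintro c a ⟨h, k, h1, h2⟩
    refine ⟨c • h, c • k, fun x => ?_, fun y => ?_⟩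
    · simp only [LinearMap.smul_apply, map_smul, smul_eq_mul, mul_smul, ← h1 x, smul_add]
    · simp only [LinearMap.smul_apply, map_smul, smul_eq_mul, mul_smul, ← h2 y, smul_add]

/-- A contractible `ℤ/2`-graded complex has isomorphic parts. -/
lemma equiv_of_one_mem_nullIdeal {A B : Type u} [AddCommGroup A] [Module R A] [AddCommGroup B]
    [Module R B] {d : A →ₗ[R] B} {e : B →ₗ[R] A} (hed : ∀ x, e (d x) = 0) (hde : ∀ y, d (e y) = 0)
    (h1 : (1 : R) ∈ nullIdeal d e) : Nonempty (A ≃ₗ[R] B) := by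
  obtain ⟨h, k, hA, hB⟩ := h1
  have hA' : ∀ x, k (d x) + e (h x) = x := fun x => (hA x).trans (one_smul R x)
  have hB' : ∀ y, h (e y) + d (k y) = y := fun y => (hB y).trans (one_smul R y)
  -- `p = e ∘ h` and `q = k ∘ d` are idempotents
  have hkd : ∀ x, k (d (k (d x))) = k (d x) := fun x => by
    have hz := hA' (k (d x))
    have : d (k (d x)) = d x := by
      have := congrArg d (hA' x)
      rwa [map_add, hde, add_zero] at this
    rw [this]
  have heh : ∀ x, e (h (e (h x))) = e (h x) := fun x => by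
    have := hA' (e (h x))
    rwa [hde, map_zero, zero_add] at this
  have hdk : ∀ y, d (k (d (k y))) = d (k y) := fun y => by
    have := hB' (d (k y))
    rwa [hed, map_zero, zero_add] at this
  have hhe : ∀ y, h (e (h (e y))) = h (e y) := fun y => by
    have : e (h (e y)) = e y := by
      have := congrArg e (hB' y)
      rwa [map_add, hed, add_zero] at this
    rw [this]
  have hz1 : ∀ x, d (k (h (e (h x)))) = 0 := fun x => by
    have := hB' (h (e (h x)))
    rwa [heh, add_eq_left] at this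
  have hz2 : ∀ y, e (h (k (d (k y)))) = 0 := fun y => by
    have := hA' (k (d (k y)))
    rwa [hdk, add_eq_left] at this
  refine ⟨LinearEquiv.ofLinearMap (d + h.comp (e.comp h)) (e + k.comp (d.comp k))
    (LinearMap.ext fun y => ?_) (LinearMap.ext fun x => ?_)⟩
  · simp only [LinearMap.add_apply, LinearMap.comp_apply, map_add, LinearMap.id_apply, hde, hdk,
      hhe, hz2, map_zero]
    simpa [add_comm] using hB' y
  · simp only [LinearMap.add_apply, LinearMap.comp_apply, map_add, LinearMap.id_apply, hed, hkd,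
      heh, hz1, map_zero]
    simpa [add_comm] using hA' x

section Step

variable {A B P F : Type u} [AddCommGroup A] [Module R A] [AddCommGroup B] [Module R B]
  [AddCommGroup P] [Module R P] [AddCommGroup F] [Module R F]
  (d : A →ₗ[R] B) (e : B →ₗ[R] A) (φ : F →ₗ[R] P)

/-- The even-to-odd map of the tensor product with `φ : F → P`. -/
noncomputable def stepD : (A ⊗[R] F) × (B ⊗[R] P) →ₗ[R] (A ⊗[R] P) × (B ⊗[R] F) :=
  LinearMap.prod ((φ.lTensor A).coprod (e.rTensor P)) ((d.rTensor F).comp (LinearMap.fst R _ _))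

/-- The odd-to-even map of the tensor product with `φ : F → P`. -/
noncomputable def stepE : (A ⊗[R] P) × (B ⊗[R] F) →ₗ[R] (A ⊗[R] F) × (B ⊗[R] P) :=
  LinearMap.prod ((e.rTensor F).comp (LinearMap.snd R _ _))
    ((d.rTensor P).coprod (-(φ.lTensor B)))

variable {M N S T : Type u} [AddCommGroup M] [Module R M] [AddCommGroup N] [Module R N]
  [AddCommGroup S] [Module R S] [AddCommGroup T] [Module R T]

lemma rT_lT (f : M →ₗ[R] N) (g : S →ₗ[R] T) (z : M ⊗[R] S) :
    f.rTensor T (g.lTensor M z) = g.lTensor N (f.rTensor S z) := by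
  induction z using TensorProduct.induction_on with
  | zero => simp
  | tmul a b => simp
  | add a b ha hb => simp [map_add, ha, hb]

lemma rT_add_comp {f : M →ₗ[R] N} {g : N →ₗ[R] M} {f' : M →ₗ[R] N} {g' : N →ₗ[R] M} {c : R}
    (h : ∀ x, g' (f x) + g (f' x) = c • x) (z : M ⊗[R] S) :
    g'.rTensor S (f.rTensor S z) + g.rTensor S (f'.rTensor S z) = c • z := by
  induction z using TensorProduct.induction_on with
  | zero => simp
  | tmul a b => simp [← add_tmul, h, smul_tmul']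
  | add a b ha hb => rw [smul_add, ← ha, ← hb]; simp only [map_add]; abel

lemma rT_comp_zero {f : M →ₗ[R] N} {g : N →ₗ[R] M} (h : ∀ x, g (f x) = 0) (z : M ⊗[R] S) :
    g.rTensor S (f.rTensor S z) = 0 := by
  induction z using TensorProduct.induction_on with
  | zero => simp
  | tmul a b => simp [h]
  | add a b ha hb => simp [map_add, ha, hb]

lemma lT_comp_smul {f : S →ₗ[R] T} {g : T →ₗ[R] S} {c : R} (h : ∀ x, g (f x) = c • x)
    (z : M ⊗[R] S) : g.lTensor M (f.lTensor M z) = c • z := by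
  induction z using TensorProduct.induction_on with
  | zero => simp
  | tmul a b => simp [h, tmul_smul]
  | add a b ha hb => simp [map_add, ha, hb]

variable {d e φ}

lemma stepE_stepD (hed : ∀ x, e (d x) = 0) (hde : ∀ y, d (e y) = 0)
    (p : (A ⊗[R] F) × (B ⊗[R] P)) : stepE d e φ (stepD d e φ p) = 0 := by
  obtain ⟨x, y⟩ := p
  ext
  · simp [stepD, stepE, rT_comp_zero hed]
  · simp [stepD, stepE, map_add, rT_comp_zero hde, rT_lT]

lemma stepD_stepE (hed : ∀ x, e (d x) = 0) (hde : ∀ y, d (e y) = 0)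
    (p : (A ⊗[R] P) × (B ⊗[R] F)) : stepD d e φ (stepE d e φ p) = 0 := by
  obtain ⟨x, y⟩ := p
  ext
  · simp [stepD, stepE, map_add, rT_comp_zero hed, rT_lT]
  · simp [stepD, stepE, rT_comp_zero hde]

lemma mem_nullIdeal_step_of_mem {g : R} (hg : g ∈ nullIdeal d e) :
    g ∈ nullIdeal (stepD d e φ) (stepE d e φ) := by
  obtain ⟨h, k, h1, h2⟩ := hg
  refine ⟨LinearMap.prod ((k.rTensor P).comp (LinearMap.snd R _ _))
      ((h.rTensor F).comp (LinearMap.fst R _ _)),
    LinearMap.prod ((k.rTensor F).comp (LinearMap.snd R _ _))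
      ((h.rTensor P).comp (LinearMap.fst R _ _)), fun ⟨x, y⟩ => ?_, fun ⟨u, v⟩ => ?_⟩
  · ext
    · simp [stepD, stepE, rT_add_comp h1]
    · simp [stepD, stepE, map_add, rT_lT, ← rT_add_comp h2 y]
      abel
  · ext
    · simp [stepD, stepE, map_add, rT_lT, ← rT_add_comp h1 u]
    · simp [stepD, stepE, rT_add_comp h2]

lemma mem_nullIdeal_step_new {g : R} (ψ : P →ₗ[R] F) (h1 : ∀ x, ψ (φ x) = g • x)
    (h2 : ∀ y, φ (ψ y) = g • y) : g ∈ nullIdeal (stepD d e φ) (stepE d e φ) := by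
  refine ⟨LinearMap.prod 0 ((-(ψ.lTensor B)).comp (LinearMap.snd R _ _)),
    LinearMap.prod ((ψ.lTensor A).comp (LinearMap.fst R _ _)) 0,
    fun ⟨x, y⟩ => ?_, fun ⟨u, v⟩ => ?_⟩
  · ext
    · simp [stepD, stepE, map_add, rT_lT, lT_comp_smul h1]
    · simp [stepD, stepE, lT_comp_smul h2]
  · ext
    · simp [stepD, stepE, lT_comp_smul h2]
    · simp [stepD, stepE, map_add, map_neg, rT_lT, lT_comp_smul h1]

end Step

/-- Evaluation of natural polynomials at a class. -/
noncomputable def ev (p : Cls R) : ℕ[X] →+* Cls R :=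
  Polynomial.eval₂RingHom (Nat.castRingHom (Cls R)) p

@[simp] lemma ev_X (p : Cls R) : ev p X = p := Polynomial.eval₂_X ..

@[simp] lemma ev_C (p : Cls R) (n : ℕ) : ev p (C n) = (n : Cls R) := Polynomial.eval₂_C ..

/-- The inclusion `ℕ[X] → ℤ[X]`. -/
noncomputable def toInt : ℕ[X] →+* ℤ[X] := Polynomial.mapRingHom (Nat.castRingHom ℤ)

lemma toInt_injective : Function.Injective toInt :=
  Polynomial.map_injective _ (fun _ _ h => Nat.cast_injective h)

@[simp] lemma toInt_X : toInt X = X := Polynomial.map_X _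

@[simp] lemma toInt_C (n : ℕ) : toInt (C n) = C (n : ℤ) := Polynomial.map_C _

lemma exists_toInt_sub (a : ℤ[X]) : ∃ a₁ a₂ : ℕ[X], a = toInt a₁ - toInt a₂ := by
  induction a using Polynomial.induction_on' with
  | add a b ha hb =>
    obtain ⟨a₁, a₂, rfl⟩ := ha
    obtain ⟨b₁, b₂, rfl⟩ := hb
    exact ⟨a₁ + b₁, a₂ + b₂, by simp only [map_add]; ring⟩
  | monomial n c =>
    refine ⟨monomial n c.toNat, monomial n (-c).toNat, ?_⟩
    simp only [toInt, Polynomial.coe_mapRingHom, Polynomial.map_monomial, ← map_sub]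
    congr 1
    simp only [eq_natCast]
    omega

variable (P : Type u) [AddCommGroup P] [Module R P] [Module.Finite R P] [Module.Projective R P]

lemma exists_complex (r : ℕ) {k : ℕ} (g : Fin k → R)
    (φ : Fin k → (Fin r → R) →ₗ[R] P) (ψ : Fin k → P →ₗ[R] (Fin r → R))
    (h1 : ∀ i x, ψ i (φ i x) = g i • x) (h2 : ∀ i y, φ i (ψ i y) = g i • y) :
    ∀ m, m ≤ k → ∃ (E O : ℕ[X]) (A B : FP R) (d : A.carrier →ₗ[R] B.carrier)
      (e : B.carrier →ₗ[R] A.carrier),
      toInt E - toInt O = (C (r : ℤ) - X) ^ m ∧ cls A.carrier = ev (cls (R := R) P) E ∧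
      cls B.carrier = ev (cls (R := R) P) O ∧ (∀ x, e (d x) = 0) ∧ (∀ y, d (e y) = 0) ∧
      ∀ i : Fin k, i.val < m → g i ∈ nullIdeal d e := by
  intro m
  induction m with
  | zero =>
    intro _
    refine ⟨1, 0, ⟨R⟩, ⟨PUnit.{u+1}⟩, 0, 0, by simp, ?_, ?_, by simp, by simp,
      fun i hi => absurd hi (Nat.not_lt_zero _)⟩
    · rw [map_one]; rfl
    · rw [map_zero]; rfl
  | succ m ih =>
    intro hm
    obtain ⟨E, O, A, B, d, e, hEO, hA, hB, hed, hde, hnull⟩ := ih (by omega)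
    refine ⟨E * C r + O * X, E * X + O * C r,
      ⟨(A.carrier ⊗[R] (Fin r → R)) × (B.carrier ⊗[R] P)⟩,
      ⟨(A.carrier ⊗[R] P) × (B.carrier ⊗[R] (Fin r → R))⟩,
      stepD d e (φ ⟨m, by omega⟩), stepE d e (φ ⟨m, by omega⟩), ?_, ?_, ?_,
      stepE_stepD hed hde, stepD_stepE hed hde, fun i hi => ?_⟩
    · rw [pow_succ, ← hEO]
      simp only [map_add, map_mul, toInt_X, toInt_C]
      ring
    · simp only [map_add, map_mul, ev_X, ev_C, ← hA, ← hB, ← cls_fin, cls_mul, cls_add]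
    · simp only [map_add, map_mul, ev_X, ev_C, ← hA, ← hB, ← cls_fin, cls_mul, cls_add]
    · rcases Nat.lt_succ_iff_lt_or_eq.1 hi with hi | hi
      · exact mem_nullIdeal_step_of_mem (hnull i hi)
      · have hi' : i = ⟨m, by omega⟩ := Fin.ext hi
        rw [hi']
        exact mem_nullIdeal_step_new (ψ _) (h1 _) (h2 _)

/-- In `ℤ[X]`, a power of `n r^(n-1)` kills `X - r` modulo `(X^n - r^n, (r - X)^k)`. -/
lemma exists_poly_identity (r n k : ℕ) :
    ∃ a b : ℤ[X], C (((n * r ^ (n - 1)) ^ k : ℕ) : ℤ) * (X - C (r : ℤ))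
      = a * (X ^ n - C (r : ℤ) ^ n) + b * (C (r : ℤ) - X) ^ k := by
  set I : Ideal ℤ[X] := Ideal.span {X ^ n - C (r : ℤ) ^ n, (C (r : ℤ) - X) ^ k} with hI
  suffices h : C (((n * r ^ (n - 1)) ^ k : ℕ) : ℤ) * (X - C (r : ℤ)) ∈ I by
    obtain ⟨a, b, hab⟩ := Ideal.mem_span_pair.1 h
    exact ⟨a, b, hab.symm⟩
  set σ : ℤ[X] := ∑ i ∈ Finset.range n, X ^ i * C (r : ℤ) ^ (n - 1 - i) with hσ
  have hroot : (σ - C ((n * r ^ (n - 1) : ℕ) : ℤ)).IsRoot (r : ℤ) := by
    simp [hσ, IsRoot.def, eval_finset_sum, geom_sum₂_self]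
  obtain ⟨τ, hτ⟩ := dvd_iff_isRoot.2 hroot
  set q : ℤ[X] →+* ℤ[X] ⧸ I := Ideal.Quotient.mk I
  have hfac : q (σ * (X - C (r : ℤ))) = 0 := by
    rw [hσ, geom_sum₂_mul]
    exact Ideal.Quotient.eq_zero_iff_mem.2 (Ideal.subset_span (by simp))
  have hy : q (X - C (r : ℤ)) ^ k = 0 := by
    rw [← map_pow]
    refine Ideal.Quotient.eq_zero_iff_mem.2 ?_
    rw [show (X - C (r : ℤ)) ^ k = (-1) ^ k * (C (r : ℤ) - X) ^ k by rw [← mul_pow]; ring]
    exact Ideal.mul_mem_left _ _ (Ideal.subset_span (by simp))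
  set y := q (X - C (r : ℤ))
  set U := q (C ((n * r ^ (n - 1) : ℕ) : ℤ))
  have hU : U * y = (-q τ) * y * y := by
    rw [show σ = C ((n * r ^ (n - 1) : ℕ) : ℤ) + (X - C (r : ℤ)) * τ by rw [← hτ]; ring] at hfac
    simp only [map_mul, map_add] at hfac
    linear_combination hfac
  have key : ∀ j, U ^ j * y = (-q τ) ^ j * y ^ (j + 1) := by
    intro j
    induction j with
    | zero => simp
    | succ j ih =>
      calc U ^ (j + 1) * y = U * (U ^ j * y) := by ring
        _ = (-q τ) ^ j * y ^ j * (U * y) := by rw [ih]; ring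
        _ = _ := by rw [hU]; ring
  refine Ideal.Quotient.eq_zero_iff_mem.1 ?_
  show q _ = 0
  rw [map_mul, Nat.cast_pow, map_pow, map_pow]
  show U ^ k * y = 0
  rw [key, pow_succ, hy]
  ring

/-- If `[P]^n = r^n` and `[P] - r` is nilpotent, then `N [P] + s = N r + s`. -/
lemma exists_nsmul_stably_eq (r n : ℕ) (hn : 1 ≤ n) (hr : 1 ≤ r) {k : ℕ} (c g : Fin k → R)
    (hc : ∑ i, c i * g i = 1) (φ : Fin k → (Fin r → R) →ₗ[R] P)
    (ψ : Fin k → P →ₗ[R] (Fin r → R)) (h1 : ∀ i x, ψ i (φ i x) = g i • x)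
    (h2 : ∀ i y, φ i (ψ i y) = g i • y) (hpow : cls (R := R) P ^ n = (r : Cls R) ^ n) :
    ∃ N s : ℕ, 1 ≤ N ∧ (N : Cls R) * cls P + (s : Cls R) = ((N * r + s : ℕ) : Cls R) := by
  obtain ⟨E, O, A, B, d, e, hEO, hA, hB, hed, hde, hnull⟩ :=
    exists_complex P r g φ ψ h1 h2 k le_rfl
  have hone : (1 : R) ∈ nullIdeal d e := by
    rw [← hc]
    exact Ideal.sum_mem _ fun i _ => Ideal.mul_mem_left _ _ (hnull i i.2)
  obtain ⟨eq'⟩ := equiv_of_one_mem_nullIdeal hed hde hone
  have hev : ev (cls (R := R) P) E = ev (cls P) O := by rw [← hA, ← hB]; exact cls_congr eq'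
  obtain ⟨a, b, hab⟩ := exists_poly_identity r n k
  obtain ⟨a₁, a₂, rfl⟩ := exists_toInt_sub a
  obtain ⟨b₁, b₂, rfl⟩ := exists_toInt_sub b
  set N := (n * r ^ (n - 1)) ^ k
  have hnat : C N * X + (a₁ * C r ^ n + a₂ * X ^ n + b₁ * O + b₂ * E)
      = C N * C r + (a₁ * X ^ n + a₂ * C r ^ n + b₁ * E + b₂ * O) := by
    apply toInt_injective
    rw [← hEO] at hab
    simp only [map_add, map_mul, map_pow, toInt_X, toInt_C]
    linear_combination hab
  have h := congrArg (ev (cls (R := R) P)) hnat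
  simp only [map_add, map_mul, map_pow, ev_X, ev_C, hev, hpow] at h
  obtain ⟨c', s, hcs⟩ := exists_add_eq_natCast (ev (cls (R := R) P) a₁ * (r : Cls R) ^ n
    + ev (cls P) a₂ * (r : Cls R) ^ n + ev (cls P) b₁ * ev (cls P) O
    + ev (cls P) b₂ * ev (cls P) O)
  refine ⟨N, s, Nat.one_le_pow _ _ (Nat.mul_pos hn (Nat.pow_pos hr)), ?_⟩
  have h' := congrArg (· + c') h
  simp only [add_assoc] at h' hcs
  rw [hcs] at h'
  simpa only [Nat.cast_add, Nat.cast_mul] using h'

/-- Stably free with a summand `R` in some power implies some power is free. -/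
lemma exists_power_free {Q : Cls R} {a m : ℕ} (hm : 1 ≤ m) (hQ : Q + a = ((m + a : ℕ) : Cls R))
    {k : ℕ} {w : Cls R} (hw : (k : Cls R) * Q = 1 + w) (hk : 1 ≤ k) :
    ∃ l f : ℕ, 1 ≤ l ∧ (l : Cls R) * Q = (f : Cls R) := by
  rcases Nat.eq_zero_or_pos a with rfl | ha
  · exact ⟨1, m, le_rfl, by simpa using hQ⟩
  simp only [Nat.cast_add] at hQ
  set K := k * a
  have hK : (K : Cls R) * Q = a + a * w := by
    rw [Nat.cast_mul, mul_comm (k : Cls R), mul_assoc, hw, mul_add, mul_one]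
  have habs : ∀ j : ℕ, (j : Cls R) * Q + a = a + j * m := by
    intro j
    induction j with
    | zero => simp
    | succ j ih =>
      calc ((j + 1 : ℕ) : Cls R) * Q + a = Q + ((j : Cls R) * Q + a) := by push_cast; ring
        _ = (Q + a) + j * m := by rw [ih, add_assoc]
        _ = a + (j + 1 : ℕ) * m := by rw [hQ]; push_cast; ring
  have hfree : (a : Cls R) * w + a + K * a = ((K * (m + a) : ℕ) : Cls R) := by
    calc (a : Cls R) * w + a + K * a = (K : Cls R) * (Q + a) := by rw [mul_add, hK]; ring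
      _ = _ := by rw [hQ]; push_cast; ring
  obtain ⟨dd, hdd⟩ : ∃ dd, K * a + dd = K * a * m := by
    exact ⟨K * a * m - K * a, by
      have : K * a * 1 ≤ K * a * m := Nat.mul_le_mul_left _ hm
      omega⟩
  refine ⟨K + K * a, K * (m + a) + dd, ?_, ?_⟩
  · have : 1 ≤ K := Nat.mul_pos hk ha
    omega
  · calc ((K + K * a : ℕ) : Cls R) * Q
        = (a : Cls R) * w + (((K * a : ℕ) : Cls R) * Q + a) := by
          push_cast; rw [add_mul, hK]; ring
      _ = (a : Cls R) * w + (a + ((K * a * m : ℕ) : Cls R)) := by rw [habs]; push_cast; ring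
      _ = ((a : Cls R) * w + a + K * a) + dd := by rw [← hdd]; push_cast; ring
      _ = _ := by rw [hfree]; push_cast; ring

end Groth.Agent.K0Trick
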